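import Mathlib

/-!
A discrete valuation ring extension with prescribed algebraic residue field extension, inside the
separable closure: a maximal subfield on which the valuation stays discrete with the same
uniformizer and residues in the prescribed field realises all of it.
-/

universe u

open Polynomial IsLocalRing

namespace Groth.Agent.DvrResExt

variable {Ω : Type u} [Field Ω] (V : ValuationSubring Ω) (π : Ω) {F : Type u} [Field F]
  (φ : F →+* ResidueField V)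

/-- Every nonzero element of `L` is a power of `π` times a unit of `V` with residue in `F`. -/
def Adapted (L : Subfield Ω) : Prop :=
  ∀ x ∈ L, x ≠ 0 → ∃ (n : ℤ) (u : V),
    x = π ^ n * (u : Ω) ∧ residue V u ≠ 0 ∧ residue V u ∈ φ.range

/-- The valuation ring of a subfield. -/
abbrev ringOf (L : Subfield Ω) : Subring Ω := L.toSubring ⊓ V.toSubring

def toV (L : Subfield Ω) : ringOf V L →+* V := Subring.inclusion inf_le_right

/-- The residue of an element of the valuation ring of a subfield. -/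
noncomputable def res (L : Subfield Ω) : ringOf V L →+* ResidueField V :=
  (residue V).comp (toV V L)

/-- The valuation ring of a subfield inside it. -/
def toL (L : Subfield Ω) : ringOf V L →+* L := Subring.inclusion inf_le_left

lemma residue_ne_zero_iff_isUnit (u : V) : residue V u ≠ 0 ↔ IsUnit u := by
  rw [ne_eq, residue_eq_zero_iff, mem_maximalIdeal, mem_nonunits_iff, not_not]

variable {V π φ}

lemma mem_of_nonneg (hπ : π ∈ V) {n : ℤ} (hn : 0 ≤ n) (u : V) : π ^ n * (u : Ω) ∈ V := by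
  obtain ⟨m, rfl⟩ := Int.eq_ofNat_of_zero_le hn
  rw [zpow_natCast]
  exact mul_mem (pow_mem hπ m) u.2

variable {L : Subfield Ω}

/-- Membership in `V` in terms of the exponent. -/
lemma mem_iff_nonneg (hπ0 : π ≠ 0) (hπ : π ∈ V)
    (hπm : (⟨π, hπ⟩ : V) ∈ maximalIdeal V) {n : ℤ} {u : V} (hu : residue V u ≠ 0) :
    π ^ n * (u : Ω) ∈ V ↔ 0 ≤ n := by
  refine ⟨fun h ↦ ?_, fun h ↦ mem_of_nonneg hπ h u⟩
  by_contra hn
  obtain ⟨m, rfl⟩ : ∃ m : ℕ, n = -((m + 1 : ℕ) : ℤ) := ⟨(-n - 1).toNat, by omega⟩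
  rw [zpow_neg, zpow_natCast] at h
  apply hu
  rw [residue_eq_zero_iff]
  have : u = ⟨π, hπ⟩ ^ (m + 1) * ⟨_, h⟩ := Subtype.ext (by
    simp [mul_inv_cancel_left₀ (pow_ne_zero (m + 1) hπ0)])
  rw [this]
  exact Ideal.mul_mem_right _ _ (Ideal.pow_mem_of_mem _ hπm _ (Nat.succ_pos m))

/-- A nonzero element of the valuation ring of an adapted subfield. -/
lemma exists_pow_mul (hπ0 : π ≠ 0) (hπ : π ∈ V) (hπm : (⟨π, hπ⟩ : V) ∈ maximalIdeal V)
    (hπL : π ∈ L) (hL : Adapted V π φ L) (x : ringOf V L) (hx : x ≠ 0) :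
    ∃ (m : ℕ) (u : ringOf V L), IsUnit u ∧ x = ⟨π, hπL, hπ⟩ ^ m * u ∧ res V L u ∈ φ.range := by
  obtain ⟨n, u, h, hu, hu'⟩ := hL x x.2.1 (fun h ↦ hx (Subtype.ext h))
  have hn : 0 ≤ n := (mem_iff_nonneg hπ0 hπ hπm hu).mp (h ▸ x.2.2)
  obtain ⟨m, rfl⟩ := Int.eq_ofNat_of_zero_le hn
  rw [zpow_natCast] at h
  have huL : (u : Ω) ∈ L := by
    have : (u : Ω) = (π ^ m)⁻¹ * x := by rw [h, inv_mul_cancel_left₀ (pow_ne_zero m hπ0)]
    rw [this]
    exact mul_mem (inv_mem (pow_mem hπL m)) x.2.1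
  obtain ⟨w, hw⟩ := (residue_ne_zero_iff_isUnit V u).mp hu
  have hwV : ((↑w⁻¹ : V) : Ω) * (u : Ω) = 1 := by
    rw [← hw]
    exact congrArg Subtype.val w.inv_mul
  have hwL : ((↑w⁻¹ : V) : Ω) ∈ L := by
    rw [eq_inv_of_mul_eq_one_left hwV]
    exact inv_mem huL
  refine ⟨m, ⟨u, huL, u.2⟩, ?_, Subtype.ext (by simpa using h), hu'⟩
  exact IsUnit.of_mul_eq_one (b := ⟨_, hwL, (↑w⁻¹ : V).2⟩)
    (Subtype.ext (by simpa [mul_comm] using hwV))

lemma isUnit_iff_res_ne_zero (hπ0 : π ≠ 0) (hπ : π ∈ V) (hπm : (⟨π, hπ⟩ : V) ∈ maximalIdeal V)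
    (hπL : π ∈ L) (hL : Adapted V π φ L) (x : ringOf V L) : IsUnit x ↔ res V L x ≠ 0 := by
  refine ⟨fun h ↦ (h.map (res V L)).ne_zero, fun h ↦ ?_⟩
  have hx : x ≠ 0 := fun h' ↦ h (by rw [h', map_zero])
  obtain ⟨m, u, hu, rfl, -⟩ := exists_pow_mul hπ0 hπ hπm hπL hL x hx
  rcases Nat.eq_zero_or_pos m with rfl | hm
  · simpa using hu
  · refine absurd ?_ h
    have : res V L ⟨π, hπL, hπ⟩ = 0 := (residue_eq_zero_iff _).mpr hπm
    simp [this, hm.ne']

lemma isDiscreteValuationRing (hπ0 : π ≠ 0) (hπ : π ∈ V) (hπm : (⟨π, hπ⟩ : V) ∈ maximalIdeal V)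
    (hπL : π ∈ L) (hL : Adapted V π φ L) :
    IsDiscreteValuationRing (ringOf V L) ∧ Irreducible (⟨π, hπL, hπ⟩ : ringOf V L) := by
  set p : ringOf V L := ⟨π, hπL, hπ⟩ with hp
  have hp0 : p ≠ 0 := fun h ↦ hπ0 (congrArg Subtype.val h)
  have hpu : ¬ IsUnit p := fun h ↦
    (isUnit_iff_res_ne_zero hπ0 hπ hπm hπL hL p).mp h ((residue_eq_zero_iff _).mpr hπm)
  have hirr : Irreducible p := by
    refine ⟨hpu, fun a b hab ↦ ?_⟩
    have ha : a ≠ 0 := fun h ↦ hp0 (by rw [hab, h, zero_mul])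
    have hb : b ≠ 0 := fun h ↦ hp0 (by rw [hab, h, mul_zero])
    obtain ⟨m, v, hv, hae, -⟩ := exists_pow_mul hπ0 hπ hπm hπL hL a ha
    obtain ⟨k, w, hw, hbe, -⟩ := exists_pow_mul hπ0 hπ hπm hπL hL b hb
    rw [← hp] at hae hbe
    rcases Nat.eq_zero_or_pos m with rfl | hm
    · exact .inl (by rw [hae]; simpa using hv)
    · refine .inr ?_
      obtain ⟨j, rfl⟩ : ∃ j, m = j + 1 := ⟨m - 1, by omega⟩
      have : p * (p ^ j * v * b) = p * 1 := by
        rw [mul_one]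
        conv_rhs => rw [hab, hae]
        ring
      exact IsUnit.of_mul_eq_one_right _ (mul_left_cancel₀ hp0 this)
  refine ⟨IsDiscreteValuationRing.ofHasUnitMulPowIrreducibleFactorization ⟨p, hirr, fun {x} hx ↦ ?_⟩,
    hirr⟩
  obtain ⟨m, v, hv, hxe, -⟩ := exists_pow_mul hπ0 hπ hπm hπL hL x hx
  exact ⟨m, hv.unit, hxe.symm⟩

/-- Valued-integral roots. -/
lemma mem_of_isRoot (Q : V[X]) (hQ : Q.Monic) {r : Ω} (hr : aeval r Q = 0) : r ∈ V := by
  obtain ⟨y, hy⟩ := IsIntegrallyClosed.isIntegral_iff.mp ⟨Q, hQ, hr⟩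
  rw [← hy]
  exact y.2

lemma isAlgClosed_residueField [IsAlgClosed Ω] : IsAlgClosed (ResidueField V) := by
  refine IsAlgClosed.of_exists_root _ fun q hq hirr ↦ ?_
  obtain ⟨Q, hQ, hdeg, hmon⟩ := lifts_and_natDegree_eq_and_monic
    (show q ∈ lifts (residue V) from map_surjective _ (residue_surjective) q) hq
  have : (Q.map (algebraMap V Ω)).degree ≠ 0 := by
    rw [hmon.degree_map, degree_eq_natDegree hmon.ne_zero, hdeg]
    exact_mod_cast hirr.natDegree_pos.ne'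
  obtain ⟨r, hr⟩ := IsAlgClosed.exists_root _ this
  have hr' : aeval r Q = 0 := by rwa [IsRoot.def, eval_map_algebraMap] at hr
  refine ⟨residue V ⟨r, mem_of_isRoot Q hmon hr'⟩, ?_⟩
  rw [← hQ, eval_map, eval₂_hom]
  have : Q.eval ⟨r, mem_of_isRoot Q hmon hr'⟩ = 0 := by
    apply (IsFractionRing.injective V Ω)
    rw [map_zero, ← aeval_algebraMap_apply_eq_algebraMap_eval]
    exact hr'
  rw [this, map_zero]

variable (hπ0 : π ≠ 0) (hπ : π ∈ V) (hπm : (⟨π, hπ⟩ : V) ∈ maximalIdeal V) (hπL : π ∈ L)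
  (hL : Adapted V π φ L)

include hπ0 hπ hπm hπL hL

lemma res_mem_range (x : ringOf V L) : res V L x ∈ φ.range := by
  rcases eq_or_ne x 0 with rfl | hx
  · simp
  obtain ⟨m, u, -, rfl, hu⟩ := exists_pow_mul hπ0 hπ hπm hπL hL x hx
  rw [map_mul, map_pow]
  refine mul_mem (pow_mem ?_ m) hu
  rw [show res V L ⟨π, hπL, hπ⟩ = 0 from (residue_eq_zero_iff _).mpr hπm]
  exact zero_mem _

/-- A polynomial over `L` is a power of `π` times one over the valuation ring, primitive. -/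
lemma exists_scale (p : L[X]) (hp : p ≠ 0) :
    ∃ (n : ℤ) (p₀ : (ringOf V L)[X]), p.map L.subtype = C (π ^ n) * p₀.map (ringOf V L).subtype ∧
      p₀.natDegree = p.natDegree ∧ p₀.map (res V L) ≠ 0 := by
  classical
  have key : ∀ i ∈ p.support, ∃ (n : ℤ) (u : V),
      ((p.coeff i : L) : Ω) = π ^ n * (u : Ω) ∧ residue V u ≠ 0 := by
    intro i hi
    obtain ⟨n, u, h1, h2, -⟩ := hL _ (p.coeff i).2
      (fun h ↦ mem_support_iff.mp hi (Subtype.ext h))
    exact ⟨n, u, h1, h2⟩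
  choose! e v he hv using key
  obtain ⟨i₀, hi₀, hmin⟩ :=
    p.support.exists_min_image e ⟨p.natDegree, natDegree_mem_support_of_nonzero hp⟩
  set N := e i₀
  let c : ℕ → Ω := fun i ↦ π ^ (-N) * ((p.coeff i : L) : Ω)
  have hc : ∀ i, c i ∈ ringOf V L := by
    intro i
    refine ⟨mul_mem (zpow_mem hπL _) (p.coeff i).2, ?_⟩
    by_cases hi : i ∈ p.support
    · show c i ∈ V
      simp only [c]
      rw [he i hi, ← mul_assoc, ← zpow_add₀ hπ0]
      have := hmin i hi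
      exact mem_of_nonneg hπ (by omega) _
    · simp [c, notMem_support_iff.mp hi]
  have hlift : C (π ^ (-N)) * p.map L.subtype ∈ lifts (ringOf V L).subtype := by
    rw [lifts_iff_coeff_lifts]
    intro i
    exact ⟨⟨c i, hc i⟩, by simp [c, coeff_map]⟩
  obtain ⟨p₀, hp₀⟩ := (mem_lifts _).mp hlift
  have hcoeff : ∀ i, ((p₀.coeff i : ringOf V L) : Ω) = c i := fun i ↦ by
    have := congrArg (fun q ↦ q.coeff i) hp₀
    simpa [coeff_map, c] using this
  refine ⟨N, p₀, ?_, ?_, fun h ↦ ?_⟩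
  · rw [hp₀, ← mul_assoc, ← map_mul, ← zpow_add₀ hπ0, add_neg_cancel, zpow_zero, map_one, one_mul]
  · have := congrArg natDegree hp₀
    rwa [natDegree_C_mul (zpow_ne_zero _ hπ0),
      natDegree_map_eq_of_injective (RingHom.injective L.subtype),
      natDegree_map_eq_of_injective Subtype.val_injective] at this
  · have h' := congrArg (fun q ↦ q.coeff i₀) h
    simp only [coeff_map, coeff_zero] at h'
    refine hv i₀ hi₀ (Eq.trans ?_ h')
    show residue V _ = residue V _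
    congr 1
    apply Subtype.ext
    show (v i₀ : Ω) = ((p₀.coeff i₀ : ringOf V L) : Ω)
    rw [hcoeff]
    simp only [c]
    rw [he i₀ hi₀, ← mul_assoc, ← zpow_add₀ hπ0, neg_add_cancel, zpow_zero, one_mul]

end Groth.Agent.DvrResExt
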