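import Groth.Agent.DvrResExt.Basic

/-!
The enlargement step: adjoining a root of a lift of the minimal polynomial of a residue, made
separable by a multiple of the uniformizer.
-/

universe u

open Polynomial IsLocalRing

namespace Groth.Agent.DvrResExt

variable {Ω : Type u} [Field Ω] [IsAlgClosed Ω] {V : ValuationSubring Ω} {π : Ω} {F : Type u}
  [Field F] {φ : F →+* ResidueField V} {L : Subfield Ω} (hπ0 : π ≠ 0) (hπ : π ∈ V)
  (hπm : (⟨π, hπ⟩ : V) ∈ maximalIdeal V) (hπL : π ∈ L) (hL : Adapted V π φ L)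

include hπ0 hπ hπm hπL hL

/-- The residue ring of the valuation ring is a field, so nonzero polynomial relations normalise. -/
lemma exists_monic_of_eval (p : (ringOf V L)[X]) (a : ResidueField V) (hp : p.map (res V L) ≠ 0)
    (ha : p.eval₂ (res V L) a = 0) :
    ∃ q : (ringOf V L)[X], q.Monic ∧ q.natDegree ≤ p.natDegree ∧ q.eval₂ (res V L) a = 0 := by
  classical
  set j := (p.map (res V L)).natDegree
  have hc : res V L (p.coeff j) ≠ 0 := by
    rw [← coeff_map]
    exact mt leadingCoeff_eq_zero.mp hp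
  obtain ⟨w, hw⟩ := (isUnit_iff_res_ne_zero hπ0 hπ hπm hπL hL _).mpr hc
  let q₀ : (ringOf V L)[X] := C (↑w⁻¹ : ringOf V L) * p
  have hq₀ : q₀.map (res V L) = C (res V L ↑w⁻¹) * p.map (res V L) := by simp [q₀]
  have hmon : (q₀.map (res V L)).Monic := by
    rw [hq₀]
    refine monic_C_mul_of_mul_leadingCoeff_eq_one ?_
    rw [leadingCoeff, coeff_map, ← map_mul, ← hw]
    simp
  obtain ⟨q, hq, hdeg, hqm⟩ :=
    lifts_and_natDegree_eq_and_monic ((mem_lifts _).mpr ⟨q₀, rfl⟩) hmon
  refine ⟨q, hqm, ?_, ?_⟩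
  · rw [hdeg]
    refine natDegree_map_le.trans ?_
    exact natDegree_C_mul_le _ _
  · rw [← eval_map, hq, hq₀, eval_mul, eval_map, ha, mul_zero]

/-- Adjoining a separable element with prescribed residue keeps the subfield adapted. -/
theorem exists_step (a : F) (q₁ : (ringOf V L)[X]) (hq₁ : q₁.Monic)
    (hq₁a : q₁.eval₂ (res V L) (φ a) = 0) (hnot : φ a ∉ (res V L).range) :
    ∃ (L' : Subfield Ω) (r : Ω), L ≤ L' ∧ r ∈ L' ∧ (∀ M : Subfield Ω, L ≤ M → r ∈ M → L' ≤ M) ∧
      IsSeparable L r ∧ Adapted V π φ L' ∧ ∃ hr : r ∈ V, residue V ⟨r, hr⟩ = φ a := by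
  classical
  have hex : ∃ d, ∃ q : (ringOf V L)[X], q.Monic ∧ q.natDegree = d ∧ q.eval₂ (res V L) (φ a) = 0 :=
    ⟨_, q₁, hq₁, rfl, hq₁a⟩
  set d := Nat.find hex
  obtain ⟨Q₀, hQ₀, hQ₀d, hQ₀a⟩ := Nat.find_spec hex
  have hlow : ∀ p : (ringOf V L)[X], p.map (res V L) ≠ 0 → p.natDegree < d → p.eval₂ (res V L) (φ a) ≠ 0 := by
    intro p hp hpd hpa
    obtain ⟨q, hq, hqd, hqa⟩ := exists_monic_of_eval hπ0 hπ hπm hπL hL p _ hp hpa
    exact Nat.find_min hex (lt_of_le_of_lt hqd hpd) ⟨q, hq, rfl, hqa⟩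
  have hd2 : 2 ≤ d := by
    by_contra h
    have hd1 : Q₀.natDegree ≤ 1 := by omega
    rcases Nat.lt_or_ge 0 Q₀.natDegree with h0 | h0
    · apply hnot
      refine ⟨-(Q₀.coeff 0), ?_⟩
      have := hQ₀a
      rw [hQ₀.eq_X_add_C (by omega)] at this
      simp only [eval₂_add, eval₂_X, eval₂_C] at this
      rw [map_neg]
      exact (eq_neg_of_add_eq_zero_left this).symm
    · rw [hQ₀.natDegree_eq_zero.mp (by omega)] at hQ₀a
      simp at hQ₀a
  let πB : ringOf V L := ⟨π, hπL, hπ⟩
  have hπB : res V L πB = 0 := (residue_eq_zero_iff _).mpr hπm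
  let ι : ringOf V L →+* L := toL V L
  have hι : Function.Injective ι := fun x y h ↦ Subtype.ext (congrArg (fun t : L ↦ (t : Ω)) h)
  -- a lift with nonzero derivative
  obtain ⟨Q, hQ, hQd, hQa, hQ'⟩ : ∃ Q : (ringOf V L)[X], Q.Monic ∧ Q.natDegree = d ∧
      Q.eval₂ (res V L) (φ a) = 0 ∧ derivative (Q.map ι) ≠ 0 := by
    by_cases h : derivative (Q₀.map ι) = 0
    · have hdeg : (C πB * X).degree < Q₀.degree := by
        rw [degree_eq_natDegree hQ₀.ne_zero, hQ₀d]
        exact degree_C_mul_X_le _ |>.trans_lt (by exact_mod_cast hd2)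
      refine ⟨Q₀ + C πB * X, hQ₀.add_of_left hdeg, ?_, ?_, ?_⟩
      · rw [natDegree_eq_of_degree_eq (degree_add_eq_left_of_degree_lt hdeg), hQ₀d]
      · rw [eval₂_add, hQ₀a, eval₂_mul, eval₂_C, hπB, zero_mul, add_zero]
      · rw [Polynomial.map_add, derivative_add, h, zero_add]
        simp only [Polynomial.map_mul, map_C, map_X, derivative_C_mul, derivative_X, mul_one,
          ne_eq, C_eq_zero]
        exact fun h' ↦ hπ0 (congrArg (fun t : L ↦ (t : Ω)) h')
    · exact ⟨Q₀, hQ₀, hQ₀d, hQ₀a, h⟩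
  -- a root with residue `φ a`
  let QV : V[X] := Q.map (toV V L)
  have hQV : QV.Monic := hQ.map _
  obtain ⟨r, hrV, hroot, hres⟩ : ∃ (r : Ω) (hr : r ∈ V), aeval r QV = 0 ∧
      residue V ⟨r, hr⟩ = φ a := by
    have hsplit := IsAlgClosed.splits (QV.map (algebraMap V Ω))
    have hprod := hsplit.eq_prod_roots_of_monic (hQV.map _)
    obtain ⟨t, ht⟩ := residue_surjective (φ a)
    have hval : residue V (QV.eval t) = 0 := by
      rw [← eval₂_at_apply, ht, eval₂_map]
      exact hQa
    have hmem : ∀ r ∈ (QV.map (algebraMap V Ω)).roots, aeval r QV = 0 := fun r hr ↦ by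
      have := isRoot_of_mem_roots hr
      rwa [IsRoot.def, eval_map_algebraMap] at this
    set R := (QV.map (algebraMap V Ω)).roots with hR
    let RV : Multiset V := R.attach.map fun r ↦ ⟨r.1, mem_of_isRoot QV hQV (hmem r.1 r.2)⟩
    have hRV : RV.map (algebraMap V Ω) = R := by
      simp only [RV, Multiset.map_map]
      exact Multiset.attach_map_val R
    have hfac : QV = (RV.map fun r ↦ X - C r).prod := by
      refine map_injective (algebraMap V Ω) (IsFractionRing.injective V Ω) ?_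
      rw [Polynomial.map_multiset_prod, Multiset.map_map]
      refine hprod.trans ?_
      conv_lhs => rw [← hRV, Multiset.map_map]
      congr 1
      exact Multiset.map_congr rfl fun r _ ↦ by simp
    rw [hfac, eval_multiset_prod, Multiset.map_map, map_multiset_prod,
      Multiset.prod_eq_zero_iff, Multiset.map_map] at hval
    obtain ⟨rV, hrV, hzero⟩ := Multiset.mem_map.mp hval
    simp only [Function.comp_apply, eval_sub, eval_X, eval_C, map_sub, ht, sub_eq_zero] at hzero
    obtain ⟨r, -, rfl⟩ := Multiset.mem_map.mp hrV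
    exact ⟨r.1, _, hmem r.1 r.2, hzero.symm⟩
  -- nonzero polynomials of degree `< d` over `L` at `r`
  have key : ∀ p : L[X], p ≠ 0 → p.natDegree < d →
      ∃ (n : ℤ) (u : V), aeval r p = π ^ n * (u : Ω) ∧ residue V u ≠ 0 ∧
        residue V u ∈ φ.range := by
    intro p hp hpd
    obtain ⟨n, p₀, hmap, hdeg, hne⟩ := exists_scale hπ0 hπ hπm hπL hL p hp
    refine ⟨n, p₀.eval₂ (toV V L) ⟨r, hrV⟩, ?_, ?_⟩
    · have h1 : aeval r p = (p.map L.subtype).eval r := by
        rw [eval_map]; rfl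
      rw [h1, hmap, eval_mul, eval_C, eval_map]
      congr 1
      exact (hom_eval₂ p₀ (toV V L) V.subtype ⟨r, hrV⟩).symm
    · have h2 : residue V (p₀.eval₂ (toV V L) ⟨r, hrV⟩) = p₀.eval₂ (res V L) (φ a) := by
        rw [hom_eval₂, hres]; rfl
      rw [h2]
      refine ⟨hlow p₀ hne (hdeg ▸ hpd), ?_⟩
      rw [eval₂_eq_sum, Polynomial.sum_def]
      exact Subring.sum_mem _ fun i _ ↦
        mul_mem (res_mem_range hπ0 hπ hπm hπL hL _) (pow_mem (show φ a ∈ φ.range from ⟨a, rfl⟩) i)
  have hQL : (Q.map ι).Monic := hQ.map _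
  have hQr : aeval r (Q.map ι) = 0 := by
    rw [← hroot, aeval_def, aeval_def, eval₂_map, eval₂_map]
    rfl
  have hint : IsIntegral L r := ⟨_, hQL, hQr⟩
  have hQLd : (Q.map ι).natDegree = d := by rw [hQ.natDegree_map, hQd]
  have hmp : minpoly L r = Q.map ι := by
    have hge : d ≤ (minpoly L r).natDegree := by
      by_contra hlt
      obtain ⟨n, u, hu, hu0, -⟩ := key _ (minpoly.ne_zero hint) (not_le.mp hlt)
      rw [minpoly.aeval] at hu
      rcases mul_eq_zero.mp hu.symm with h | h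
      · exact zpow_ne_zero n hπ0 h
      · exact hu0 (by rw [show u = 0 from Subtype.ext h, map_zero])
    refine (eq_of_monic_of_dvd_of_natDegree_le (minpoly.monic hint) hQL (minpoly.dvd _ _ hQr) ?_).symm
    rw [hQLd]
    exact hge
  have hsep : IsSeparable L r := by
    unfold IsSeparable
    rw [separable_iff_derivative_ne_zero (minpoly.irreducible hint), hmp]
    exact hQ'
  refine ⟨(IntermediateField.adjoin L {r}).toSubfield, r, fun x hx ↦ ?_,
    IntermediateField.mem_adjoin_simple_self L r, fun M hM hrM ↦ ?_, hsep, ?_, hrV, hres⟩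
  · exact (IntermediateField.adjoin L {r}).algebraMap_mem ⟨x, hx⟩
  · rw [IntermediateField.adjoin_toSubfield, Subfield.closure_le]
    rintro x (⟨y, rfl⟩ | rfl)
    · exact hM y.2
    · exact hrM
  · intro x hx hx0
    have hx' : x ∈ (IntermediateField.adjoin L {r}).toSubalgebra := hx
    rw [IntermediateField.adjoin_simple_toSubalgebra_of_isAlgebraic hint.isAlgebraic,
      Algebra.adjoin_singleton_eq_range_aeval] at hx'
    obtain ⟨p, rfl⟩ := hx'
    have hmod : aeval r (p %ₘ Q.map ι) = aeval r p := by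
      rw [modByMonic_eq_sub_mul_div, map_sub, map_mul, hQr, zero_mul, sub_zero]
    obtain ⟨n, u, h1, h2⟩ := key (p %ₘ Q.map ι)
      (fun h ↦ hx0 (by show aeval r p = 0; rw [← hmod, h, map_zero]))
      ((natDegree_modByMonic_lt p hQL (fun h ↦ by
        have := congrArg natDegree h
        rw [hQLd, natDegree_one] at this
        omega)).trans_eq hQLd)
    exact ⟨n, u, hmod.symm.trans h1, h2⟩

end Groth.Agent.DvrResExt
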